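import Mathlib

/-! Arithmetic for the four-dimensional case. -/

set_option autoImplicit false

namespace Cfsg.Pass3

/-- the innermost test of the finite check -/
def FourP (p m c : ℕ) : Prop :=
  c ∣ p - 1 → c * (p + 1) * Nat.lcm m (p ^ 2 + 1 - m) ∣ 241864704000000 →
    3 * Nat.gcd (c * (p + 1) * Nat.lcm m (p ^ 2 + 1 - m)) (2 ^ 18) +
      8 * Nat.gcd (c * (p + 1) * Nat.lcm m (p ^ 2 + 1 - m)) (3 ^ 10) +
      24 * Nat.gcd (c * (p + 1) * Nat.lcm m (p ^ 2 + 1 - m)) (5 ^ 6) + 504 ≤ 288 * c →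
    p = 11 ∨ p = 17 ∨ p = 19

instance (p m c : ℕ) : Decidable (FourP p m c) := by unfold FourP; infer_instance

/-- the middle test of the finite check -/
def FourQ (p m : ℕ) : Prop :=
  241864704000000 % (p * p + 1 - m) = 0 → ∀ c < p, FourP p m c

instance (p m : ℕ) : Decidable (FourQ p m) := by unfold FourQ; infer_instance

/-- the outer test of the finite check -/
def FourR (p : ℕ) : Prop :=
  11 ≤ p → 241864704000000 % (p + 1) = 0 →
    ∀ l < 7, ∀ j < 11, 3 ^ j * 5 ^ l ≤ p * p → ∀ i < 19, FourQ p (2 ^ i * 3 ^ j * 5 ^ l)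

instance (p : ℕ) : Decidable (FourR p) := by unfold FourR; infer_instance

theorem four_check' : ∀ a < 48, ∀ b < 64, FourR (64 * a + b) := by
  decide +kernel

theorem four_check (p : ℕ) (hp : p < 3072) : FourR p := by
  have := four_check' (p / 64) (by omega) (p % 64) (by omega)
  rwa [Nat.div_add_mod] at this

theorem amgm_three (x y z : ℕ) : 27 * (x * y * z) ≤ (x + y + z) ^ 3 := by
  zify
  have hx : (0 : ℤ) ≤ x := Int.natCast_nonneg _
  have hy : (0 : ℤ) ≤ y := Int.natCast_nonneg _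
  have hz : (0 : ℤ) ≤ z := Int.natCast_nonneg _
  generalize (x : ℤ) = a at *
  generalize (y : ℤ) = b at *
  generalize (z : ℤ) = c at *
  have h := add_nonneg (add_nonneg hx hy) hz
  nlinarith [mul_nonneg hx (sq_nonneg (b - c)), mul_nonneg hy (sq_nonneg (a - c)),
    mul_nonneg hz (sq_nonneg (a - b)), mul_nonneg h (sq_nonneg (a - b)),
    mul_nonneg h (sq_nonneg (b - c)), mul_nonneg h (sq_nonneg (a - c))]

theorem gcd_pow_le {L r s t a b c n : ℕ} (hr : 0 < r) (hs : r.Coprime s) (ht : r.Coprime t)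
    (h : L ∣ r ^ a * s ^ b * t ^ c) : L.gcd (r ^ n) ≤ r ^ a := by
  refine Nat.le_of_dvd (pow_pos hr _) ?_
  have h1 := (Nat.gcd_dvd_left L (r ^ n)).trans h
  have h2 := Nat.gcd_dvd_right L (r ^ n)
  exact (Nat.Coprime.coprime_dvd_left h2 (hs.pow n b)).dvd_of_dvd_mul_right
    ((Nat.Coprime.coprime_dvd_left h2 (ht.pow n c)).dvd_of_dvd_mul_right h1)

theorem four_num {p c m m' α β γ : ℕ} (hp : 11 ≤ p) (hc : c ∣ p - 1) (hm : m + m' = p ^ 2 + 1)
    (h1 : c * (p + 1) * m ∣ 2 ^ α * 3 ^ β * 5 ^ γ) (h2 : c * (p + 1) * m' ∣ 2 ^ α * 3 ^ β * 5 ^ γ)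
    (h3 : 3 * 2 ^ α + 8 * 3 ^ β + 24 * 5 ^ γ + 504 ≤ 288 * c) : p = 11 ∨ p = 17 ∨ p = 19 := by
  have hcp : c ≤ p - 1 := Nat.le_of_dvd (by omega) hc
  have hc0 : 0 < c := by omega
  have h4 := Nat.le_of_dvd (by positivity) h1
  have h5 := Nat.le_of_dvd (by positivity) h2
  have hp' : p < 3072 := by
    have h6 := amgm_three (3 * 2 ^ α) (8 * 3 ^ β) (24 * 5 ^ γ)
    have h7 : (3 * 2 ^ α + 8 * 3 ^ β + 24 * 5 ^ γ) ^ 3 ≤ (288 * c) ^ 3 :=
      Nat.pow_le_pow_left (by omega) 3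
    have h8 : 2 ^ α * 3 ^ β * 5 ^ γ ≤ 1536 * c ^ 3 := by
      rw [show 27 * (3 * 2 ^ α * (8 * 3 ^ β) * (24 * 5 ^ γ)) = 15552 * (2 ^ α * 3 ^ β * 5 ^ γ) by ring]
        at h6
      rw [mul_pow] at h7
      omega
    have h9 : c * ((p + 1) * (p ^ 2 + 1)) ≤ c * (3072 * c ^ 2) := by
      rw [← hm, show c * ((p + 1) * (m + m')) = c * (p + 1) * m + c * (p + 1) * m' by ring,
        show c * (3072 * c ^ 2) = 3072 * c ^ 3 by ring]
      omega
    have h10 := Nat.le_of_mul_le_mul_left h9 hc0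
    have h11 : c ^ 2 ≤ p ^ 2 := Nat.pow_le_pow_left (by omega) 2
    by_contra! h12
    have := Nat.mul_le_mul_right (p ^ 2 + 1) (show 3072 ≤ p + 1 by omega)
    omega
  have ha : α ≤ 18 := by
    by_contra! h
    have := Nat.pow_le_pow_right (by omega : 0 < 2) h
    omega
  have hb : β ≤ 10 := by
    by_contra! h
    have := Nat.pow_le_pow_right (by omega : 0 < 3) h
    omega
  have hg : γ ≤ 6 := by
    by_contra! h
    have := Nat.pow_le_pow_right (by omega : 0 < 5) h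
    omega
  have hM : 2 ^ α * 3 ^ β * 5 ^ γ ∣ 2 ^ 18 * 3 ^ 10 * 5 ^ 6 :=
    mul_dvd_mul (mul_dvd_mul (pow_dvd_pow _ ha) (pow_dvd_pow _ hb)) (pow_dvd_pow _ hg)
  obtain ⟨y, z, hy, hz, rfl⟩ := exists_dvd_and_dvd_of_dvd_mul
    (((Dvd.intro_left _ rfl).trans h1).trans hM)
  obtain ⟨x, w, hx, hw, rfl⟩ := exists_dvd_and_dvd_of_dvd_mul hy
  obtain ⟨i, hi, rfl⟩ := (Nat.dvd_prime_pow Nat.prime_two).1 hx
  obtain ⟨j, hj, rfl⟩ := (Nat.dvd_prime_pow Nat.prime_three).1 hw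
  obtain ⟨l, hl, rfl⟩ := (Nat.dvd_prime_pow Nat.prime_five).1 hz
  obtain rfl : m' = p ^ 2 + 1 - 2 ^ i * 3 ^ j * 5 ^ l := by omega
  have hL := Nat.lcm_dvd h1 h2
  rw [Nat.lcm_mul_left] at hL
  have h0 : p ^ 2 + 1 - 2 ^ i * 3 ^ j * 5 ^ l ≠ 0 := fun h => by
    rw [h, mul_zero, zero_dvd_iff] at h2
    exact absurd h2 (by positivity)
  have h6 : 3 ^ j * 5 ^ l ≤ p * p := by
    have := Nat.le_mul_of_pos_left (3 ^ j * 5 ^ l) (pow_pos two_pos i)
    rw [← mul_assoc] at this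
    rw [← sq]
    omega
  refine four_check p hp' hp (Nat.mod_eq_zero_of_dvd
    ((((Dvd.intro_left _ rfl).mul_right _).trans h1).trans hM)) l (by omega) j (by omega) h6 i
    (by omega) (Nat.mod_eq_zero_of_dvd (sq p ▸ ((Dvd.intro_left _ rfl).trans h2).trans hM)) c
    (by omega) hc (hL.trans hM) (le_trans ?_ h3)
  have k1 := gcd_pow_le (n := 18) two_pos (by norm_num) (by norm_num) hL
  have k2 := gcd_pow_le (n := 10) (r := 3) (s := 2) (t := 5) (a := β) (b := α) (c := γ) three_pos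
    (by norm_num) (by norm_num) (hL.trans (dvd_of_eq (by ring)))
  have k3 := gcd_pow_le (n := 6) (r := 5) (s := 2) (t := 3) (a := γ) (b := α) (c := β) (by omega)
    (by norm_num) (by norm_num) (hL.trans (dvd_of_eq (by ring)))
  exact Nat.add_le_add_right (Nat.add_le_add (Nat.add_le_add (Nat.mul_le_mul_left _ k1)
    (Nat.mul_le_mul_left _ k2)) (Nat.mul_le_mul_left _ k3)) _

set_option synthInstance.maxSize 2048 in
theorem seven_check : ∀ p < 14, 11 ≤ p → ∀ c < 4, 2 ≤ c → ∀ m < 171,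
    c * (p + 1) * m ∣ 2520 → ¬ c * (p + 1) * (p ^ 2 + 1 - m) ∣ 2520 := by
  decide +kernel

theorem seven_num {p c m m' N : ℕ} (hp : 11 ≤ p) (hc : 2 ≤ c) (hm : m + m' = p ^ 2 + 1)
    (h1 : c * (p + 1) * m ∣ N) (h2 : c * (p + 1) * m' ∣ N) (h0 : 0 < N)
    (hN : N ≤ 343 ∨ N = 2520) : False := by
  have h4 := Nat.le_of_dvd h0 h1
  have h5 := Nat.le_of_dvd h0 h2
  have h6 : c * ((p + 1) * (p ^ 2 + 1)) ≤ 2 * N := by
    rw [← hm, show c * ((p + 1) * (m + m')) = c * (p + 1) * m + c * (p + 1) * m' by ring]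
    omega
  have h7 : 11 ^ 2 ≤ p ^ 2 := Nat.pow_le_pow_left hp 2
  have h8 := Nat.mul_le_mul (show 12 ≤ p + 1 by omega) (show 122 ≤ p ^ 2 + 1 by omega)
  have h9 := Nat.mul_le_mul_right ((p + 1) * (p ^ 2 + 1)) hc
  obtain rfl : N = 2520 := by omega
  have h10 : p < 14 := by
    by_contra! h
    have h7 : 14 ^ 2 ≤ p ^ 2 := Nat.pow_le_pow_left h 2
    have h8 := Nat.mul_le_mul (show 15 ≤ p + 1 by omega) (show 197 ≤ p ^ 2 + 1 by omega)
    omega
  have h11 : c < 4 := by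
    by_contra! h
    have := Nat.mul_le_mul_right ((p + 1) * (p ^ 2 + 1)) h
    omega
  have h12 : p ^ 2 ≤ 13 ^ 2 := Nat.pow_le_pow_left (by omega) 2
  obtain rfl : m' = p ^ 2 + 1 - m := by omega
  exact seven_check p h10 hp c h11 hc m (by omega) h1 h2

theorem exists_eq_smooth {N : ℕ} (h0 : N ≠ 0) (h : ∀ r, r.Prime → r ∣ N → r < 7) :
    ∃ α β γ, N = 2 ^ α * 3 ^ β * 5 ^ γ := by
  obtain ⟨α, N, h2, rfl⟩ := Nat.exists_eq_pow_mul_and_not_dvd h0 2 (by omega)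
  obtain ⟨β, N, h3, rfl⟩ := Nat.exists_eq_pow_mul_and_not_dvd (right_ne_zero_of_mul h0) 3 (by omega)
  obtain ⟨γ, N, h5, rfl⟩ := Nat.exists_eq_pow_mul_and_not_dvd
    (right_ne_zero_of_mul (right_ne_zero_of_mul h0)) 5 (by omega)
  obtain rfl : N = 1 := Nat.eq_one_iff_not_exists_prime_dvd.2 fun r hr hd => by
    have h1 := h r hr (((hd.mul_left _).mul_left _).mul_left _)
    interval_cases r
    · exact absurd hr (by norm_num)
    · exact absurd hr (by norm_num)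
    · exact h2 ((hd.mul_left _).mul_left _)
    · exact h3 (hd.mul_left _)
    · exact absurd hr (by norm_num)
    · exact h5 hd
    · exact absurd hr (by norm_num)
  exact ⟨α, β, γ, by ring⟩

end Cfsg.Pass3
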