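import Cfsg.Agent.Pass3.FourA
import Cfsg.Agent.Pass3.FourB
import Cfsg.Agent.S4904

/-! The four-dimensional case of Latin square type. -/

set_option autoImplicit false

namespace Cfsg.Pass3

open Module Cfsg.Pass

universe u v

variable {p : ℕ} [hp : Fact p.Prime] {W : Type v} [AddCommGroup W] [Module (ZMod p) W] [Finite W]
  {H : Type u} [Group H] [Finite H] {ρ : Representation (ZMod p) H W}

theorem Tw.le_center_of_four (T : Tw ρ) (h4 : finrank (ZMod p) W = 4)
    (hk : ¬ p ≤ 2 * Nat.card (ConjClasses H)) {A : Subgroup H} [A.Normal]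
    (hc : ∀ a ∈ A, ∀ b ∈ A, a * b = b * a) : A ≤ Subgroup.center H := fun z hz => by
  obtain ⟨c, hc⟩ := T.scalar_of_four h4 hk hc hz
  exact Subgroup.mem_center_iff.2 fun g => T.inj (LinearMap.ext fun v => by
    rw [mul_apply', mul_apply', hc, hc, map_smul])

theorem Tw.card_center_dvd (T : Tw ρ) (h4 : finrank (ZMod p) W = 4)
    (hk : ¬ p ≤ 2 * Nat.card (ConjClasses H)) : Nat.card (Subgroup.center H) ∣ p - 1 := by
  have : Nontrivial W := nontrivial_of_finrank_pos (R := ZMod p) (by omega)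
  obtain ⟨v, hv⟩ := exists_ne (0 : W)
  choose c hc using fun z : Subgroup.center H => T.scalar_of_four h4 hk
    (A := Subgroup.center H) (fun a _ b hb => Subgroup.mem_center_iff.1 hb a) z.2
  let f : Subgroup.center H →* ZMod p :=
    { toFun := c
      map_one' := smul_left_injective _ hv (by
        simp only [← hc, OneMemClass.coe_one, map_one, Module.End.one_apply, one_smul])
      map_mul' := fun a b => smul_left_injective _ hv (by
        simp only [mul_smul, ← hc, Subgroup.coe_mul, mul_apply']) }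
  have h1 := Subgroup.card_dvd_of_injective f.toHomUnits fun a b h => Subtype.ext (T.inj
    (LinearMap.ext fun w => by
      rw [hc, hc, show c a = c b from congrArg Units.val h]))
  rwa [Nat.card_units, Nat.card_zmod] at h1

theorem Tw.index_of_seven_le (T : Tw ρ) (h4 : finrank (ZMod p) W = 4)
    (hk : ¬ p ≤ 2 * Nat.card (ConjClasses H)) {r : ℕ} (hr : r.Prime) (h7 : 7 ≤ r)
    (hd : r ∣ (Subgroup.center H).index) :
    (Subgroup.center H).index ≤ 343 ∨ (Subgroup.center H).index = 2520 := by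
  have := Fact.mk hr
  obtain ⟨ζ, hf, hd4, -⟩ := T.exists_lift
  obtain ⟨P⟩ : Nonempty (Sylow r H) := inferInstance
  rcases Agent.S4904.result _ (by omega) ζ rfl hf r (by omega) P with
    h | ⟨⟨e⟩, h⟩ | ⟨-, h, -⟩ | ⟨-, -, ⟨e⟩⟩ | ⟨h, -⟩
  · exact absurd (hd.trans (Subgroup.index_dvd_of_le (T.le_center_of_four h4 hk
      (ζ.isCharacter.sylow_comm hf (by omega) P.isPGroup')))) P.not_dvd_index
  · obtain rfl : r = 7 := by
      have h1 : r ≤ 9 := by omega
      interval_cases r <;> first | rfl | exact absurd hr (by norm_num)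
    have h6 := card_sl2_add_le (F := ZMod 7)
    have h7 := Nat.le_of_dvd Nat.card_pos (Subgroup.card_quotient_dvd_card
      (Subgroup.center (Matrix.SpecialLinearGroup (Fin 2) (ZMod 7))))
    rw [ZMod.card] at h6
    exact .inl (((Nat.card_congr e.toEquiv).le.trans h7).trans (by omega))
  · omega
  · have h1 := two_mul_nat_card_alternatingGroup (α := Fin 7)
    rw [Nat.card_perm, Nat.card_eq_fintype_card (α := Fin 7), Fintype.card_fin,
      ← Nat.card_congr e.toEquiv, show Nat.factorial 7 = 5040 from rfl] at h1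
    exact .inr (by rw [Subgroup.index]; omega)
  · omega

theorem Tw.mem_small (T : Tw ρ) (h4 : finrank (ZMod p) W = 4)
    (hk : ¬ p ≤ 2 * Nat.card (ConjClasses H))
    (hdiv : ∀ v, v ≠ 0 → p ^ 2 - 1 ∣ (stab ρ v).index) : p = 11 ∨ p = 17 ∨ p = 19 := by
  have h11 := T.eleven_le (by omega) hk
  obtain ⟨c, hc⟩ := T.card_center_dvd h4 hk
  have hz := Nat.card_pos (α := Subgroup.center H)
  have hsum := sum_cnt_le (K := H)
  have h1 := card_center_le_cnt (K := H)
  have hsq : p ^ 2 - 1 = (p - 1) * (p + 1) := by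
    rw [mul_comm]; exact Nat.sq_sub_sq p 1
  have key : ∀ v, v ≠ 0 → ∃ m, (stab ρ v).index = (p ^ 2 - 1) * m ∧
      c * (p + 1) * m ∣ (Subgroup.center H).index := fun v hv => by
    obtain ⟨m, hm⟩ := hdiv v hv
    refine ⟨m, hm, Nat.dvd_of_mul_dvd_mul_left hz ?_⟩
    rw [Subgroup.card_mul_index, ← mul_assoc, ← mul_assoc, ← hc, ← hsq, ← hm]
    exact Subgroup.index_dvd_card _
  obtain ⟨a, b, hab, ⟨v, hv, rfl⟩, ⟨w, hw, rfl⟩, -⟩ := T.exists_lengths
  obtain ⟨m, hm, h2⟩ := key v hv
  obtain ⟨m', hm', h3⟩ := key w hw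
  have h5 : m + m' = p ^ 2 + 1 := by
    have h5 : 11 ^ 2 ≤ p ^ 2 := Nat.pow_le_pow_left h11 2
    refine Nat.eq_of_mul_eq_mul_left (show 0 < p ^ 2 - 1 by omega) ?_
    rw [hm, hm', h4, ← mul_add, show p ^ 4 = (p ^ 2) ^ 2 by ring] at hab
    rw [mul_comm _ (p ^ 2 + 1), ← Nat.sq_sub_sq]
    omega
  have h0 := (Subgroup.center H).index_ne_zero_of_finite
  obtain ⟨α, β, γ, hN⟩ := exists_eq_smooth h0 fun r hr hd => not_le.1 fun h7 =>
    seven_num h11 (by
      by_contra! h
      have := Nat.mul_le_mul_left (Nat.card (Subgroup.center H)) (show c ≤ 1 by omega)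
      omega) h5 h2 h3 (Nat.pos_of_ne_zero h0) (T.index_of_seven_le h4 hk hr h7 hd)
  obtain ⟨ζ, hf, hd4, -⟩ := T.exists_lift
  have := Fact.mk Nat.prime_five
  have k2 := pow_mul_le_cnt ζ.isCharacter hf (hd4.trans h4.le) (r := 2) (k := α) (b := 8)
    (fun j hj => Nat.le_of_dvd (by omega) ((Nat.Coprime.pow_left j (by norm_num) :
      (2 ^ j).Coprime 3).dvd_of_dvd_mul_right hj)) (hN ▸ (Dvd.intro _ rfl).mul_right _)
  have k3 := pow_mul_le_cnt ζ.isCharacter hf (hd4.trans h4.le) (r := 3) (k := β) (b := 3)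
    (fun j hj => Nat.le_of_dvd (by omega) ((Nat.Coprime.pow_left j (by norm_num) :
      (3 ^ j).Coprime 8).dvd_of_dvd_mul_left hj)) (hN ▸ (Dvd.intro_left _ rfl).mul_right _)
  have k5 := pow_mul_le_cnt ζ.isCharacter hf (hd4.trans h4.le) (r := 5) (k := γ) (b := 1)
    (fun j hj => ((Nat.Coprime.pow_left j (by norm_num) :
      (5 ^ j).Coprime 24).eq_one_of_dvd hj).le) (hN ▸ Dvd.intro_left _ rfl)
  refine four_num h11 ⟨_, hc.trans (mul_comm _ _)⟩ h5 (hN ▸ h2) (hN ▸ h3)
    (Nat.le_of_mul_le_mul_right ?_ hz)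
  rw [mul_comm _ c] at hc
  simp only [add_mul, mul_assoc]
  omega

/-- the four-dimensional case of Latin square type -/
theorem Tw.latin_four (T : Tw ρ) (h4 : finrank (ZMod p) W = 4)
    (hdiv : ∀ v, v ≠ 0 → p ^ 2 - 1 ∣ (stab ρ v).index)
    (hs : ∀ c : ZMod p, c ≠ 0 → ∀ v, v ≠ 0 → ∃ h, ρ h v = c • v) :
    p ≤ 2 * Nat.card (ConjClasses H) := by
  by_contra hk
  have : Nontrivial W := nontrivial_of_finrank_pos (R := ZMod p) (by omega)
  obtain ⟨v, hv⟩ := exists_ne (0 : W)
  obtain ⟨ζ, hf, hd4, -⟩ := T.exists_lift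
  rw [h4] at hd4
  obtain ⟨h, hh⟩ : ∃ h : H, p - 1 ∣ orderOf h := by
    obtain ⟨c, hc⟩ := IsCyclic.exists_ofOrder_eq_natCard (α := (ZMod p)ˣ)
    obtain ⟨h, hh⟩ := hs c c.ne_zero v hv
    have h1 : ∀ k : ℕ, ρ (h ^ k) v = (c : ZMod p) ^ k • v := fun k => by
      induction k with
      | zero => simp
      | succ k ih => rw [pow_succ, mul_apply', hh, map_smul, ih, pow_succ', mul_smul]
    rw [Nat.card_units, Nat.card_zmod] at hc
    refine ⟨h, hc ▸ orderOf_dvd_of_pow_eq_one (Units.ext (smul_left_injective _ hv ?_))⟩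
    simp only [Units.val_pow_eq_pow_val, ← h1, pow_orderOf_eq_one, map_one, Units.val_one, one_smul,
      Module.End.one_apply]
  have hpr : ∀ r : ℕ, r.Prime → r ∣ p ^ 2 - 1 → ∃ x : H, r ∣ orderOf x := fun r hr hd => by
    have := Fact.mk hr
    obtain ⟨x, hx⟩ := exists_prime_orderOf_dvd_card' (G := H) r
      ((hd.trans (hdiv v hv)).trans (Subgroup.index_dvd_card _))
    exact ⟨x, hx ▸ dvd_rfl⟩
  have hfour : 4 ∣ p ^ 2 - 1 → ∃ x : H, 4 ∣ orderOf x := fun hd => by
    by_contra! hcon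
    obtain ⟨S⟩ : Nonempty (Sylow 2 H) := inferInstance
    have h1 : ∀ a : S, a ^ 2 = 1 := fun a => by
      obtain ⟨k, hk⟩ := IsPGroup.iff_orderOf.1 S.isPGroup' a
      have h2 := hcon a
      rw [Subgroup.orderOf_coe, hk] at h2
      refine orderOf_dvd_iff_pow_eq_one.1 (hk ▸ ?_)
      match k with
      | 0 => simp
      | 1 => simp
      | k + 2 => exact absurd ⟨2 ^ k, by ring⟩ h2
    obtain ⟨x, -, hx⟩ := exists_dvd_orderOf (ρ := ρ) (e := 2) S (fun v hv => hd.trans (hdiv v hv))
      (.inl fun a ha b hb => congrArg Subtype.val (Commute.of_orderOf_dvd_two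
        (fun g : S => orderOf_dvd_of_pow_eq_one (h1 g)) ⟨a, ha⟩ ⟨b, hb⟩).eq)
    exact hcon x hx
  have hnine : ∀ t, t ∣ 2 → ∀ x : H, t * 3 ^ (1 + 1) ∣ orderOf x → ∃ x y : H,
      orderOf x = t * 3 ^ (1 + 1) ∧ orderOf y = t * 3 ^ (1 + 1) ∧ ¬ IsConj x y := fun t ht x hx =>
    exists_two_classes ζ.isCharacter hf hd4 Nat.prime_three {1, 5, 7, 11, 13, 17} (by decide)
      (by decide) (fun i hi => Nat.Coprime.coprime_dvd_left (Nat.mul_dvd_mul_right ht _)
        (by revert i; decide)) hx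
  rcases T.mem_small h4 hk hdiv with rfl | rfl | rfl
  · have := card_le_classes_of_orders (H := H) {1, 2, 5, 10, 3, 4} fun m hm => by
      simp only [Finset.mem_insert, Finset.mem_singleton] at hm
      rcases hm with rfl | rfl | rfl | rfl | rfl | rfl
      iterate 4 exact ⟨h, Dvd.dvd.trans (by norm_num) hh⟩
      · exact hpr 3 Nat.prime_three (by norm_num)
      · exact hfour (by norm_num)
    rw [show ({1, 2, 5, 10, 3, 4} : Finset ℕ).card = 6 from rfl] at this
    omega
  · obtain ⟨S⟩ : Nonempty (Sylow 3 H) := inferInstance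
    obtain ⟨x, -, hx⟩ := exists_dvd_orderOf (ρ := ρ) (e := 2) S
      (fun v hv => Dvd.dvd.trans (by norm_num) (hdiv v hv))
      (.inr ⟨by omega, by omega, by omega, fun i h1 h2 => by
        obtain rfl : i = 1 := by omega
        norm_num⟩)
    have := card_add_le_classes (G := H) {1, 2, 4, 8, 16, 3, 9} {16, 9} (fun m hm => by
      simp only [Finset.mem_insert, Finset.mem_singleton] at hm
      rcases hm with rfl | rfl | rfl | rfl | rfl | rfl | rfl
      iterate 5 exact ⟨h, Dvd.dvd.trans (by norm_num) hh⟩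
      all_goals exact ⟨x, Dvd.dvd.trans (by norm_num) hx⟩) (by decide) fun m hm => by
      simp only [Finset.mem_insert, Finset.mem_singleton] at hm
      rcases hm with rfl | rfl
      · exact exists_two_classes ζ.isCharacter hf hd4 (t := 1) (e := 3) Nat.prime_two
          {1, 3, 5, 7, 9} (by decide) (by decide) (by decide) hh
      · exact hnine 1 (by norm_num) x hx
    rw [show ({1, 2, 4, 8, 16, 3, 9} : Finset ℕ).card = 7 from rfl,
      show ({16, 9} : Finset ℕ).card = 2 from rfl] at this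
    omega
  · have := card_add_le_classes (G := H) {1, 2, 3, 6, 9, 18, 5, 4} {9, 18} (fun m hm => by
      simp only [Finset.mem_insert, Finset.mem_singleton] at hm
      rcases hm with rfl | rfl | rfl | rfl | rfl | rfl | rfl | rfl
      iterate 6 exact ⟨h, Dvd.dvd.trans (by norm_num) hh⟩
      · exact hpr 5 Nat.prime_five (by norm_num)
      · exact hfour (by norm_num)) (by decide) fun m hm => by
      simp only [Finset.mem_insert, Finset.mem_singleton] at hm
      rcases hm with rfl | rfl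
      · exact hnine 1 (by norm_num) h (Dvd.dvd.trans (by norm_num) hh)
      · exact hnine 2 dvd_rfl h hh
    rw [show ({1, 2, 3, 6, 9, 18, 5, 4} : Finset ℕ).card = 8 from rfl,
      show ({9, 18} : Finset ℕ).card = 2 from rfl] at this
    omega

end Cfsg.Pass3
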