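import Cfsg.Agent.Pass.NT

/-! Arithmetic for rank three linear groups: small primitive prime divisors. -/

set_option autoImplicit false

namespace Cfsg.Pass3

open Polynomial Cfsg.Pass

theorem quartic_le_ten_pow {n : ℕ} (hn : 19 ≤ n) :
    n * (n + 1) ^ 2 * (2 * n + 1) ≤ 10 ^ n.totient := by
  have h1 := cubic_le_four_pow hn
  have h2 : n + 1 ≤ 2 ^ n.totient := by
    by_contra! h
    have h3 : (2 ^ n.totient) ^ 2 ≤ n ^ 2 := Nat.pow_le_pow_left (by omega) 2
    rw [← pow_mul, mul_comm, pow_mul] at h3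
    norm_num at h3
    nlinarith
  calc n * (n + 1) ^ 2 * (2 * n + 1) = (n * (n + 1) * (2 * n + 1)) * (n + 1) := by ring
    _ ≤ 4 ^ n.totient * 2 ^ n.totient := Nat.mul_le_mul h1 h2
    _ = (4 * 2) ^ n.totient := by rw [← mul_pow]
    _ ≤ 10 ^ n.totient := Nat.pow_le_pow_left (by omega) _

theorem latin_check_a :
    ∀ n < 19, 3 ≤ n → n * (n + 1) ^ 2 * (2 * n + 1) ≤ 62 ^ n.totient := by
  decide +kernel

set_option synthInstance.maxSize 1024 in
theorem latin_check_b : ∀ n < 19, 3 ≤ n → ∀ q < 63, 11 ≤ q →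
    Nat.gcd (n * (n + 1) ^ 2 * (2 * n + 1)) ((q ^ n - 1) / (q ^ (n / n.minFac) - 1)) ≤
      (q - 1) ^ n.totient ∨ (n = 6 ∧ q = 17) := by
  decide +kernel

/-- if all primitive prime divisors of `p ^ d - 1` are small and of small multiplicity, then
`(d, p) = (6, 17)` -/
theorem latin_num {p d : ℕ} (hp : 11 ≤ p) (hd : 3 ≤ d)
    (h : ∀ s : ℕ, s.Prime → s ∣ p ^ d - 1 → (∀ i, 0 < i → i < d → ¬ s ∣ p ^ i - 1) →
      s ≤ 2 * d + 1 ∧ ∀ e, s ^ (e + 1) ∣ p ^ d - 1 → s ^ e < 2 * d) : d = 6 ∧ p = 17 := by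
  have h2 := sub_one_pow_totient_lt_natAbs_cyclotomic_eval (n := d) (q := p) (by omega) (by omega)
  have hmf := Nat.minFac_prime (by omega : d ≠ 1)
  have h3 := cyclotomic_mul_dvd (q := p) (by omega) (Nat.div_dvd_of_dvd d.minFac_dvd)
    (Nat.div_lt_self (by omega) hmf.one_lt)
  have h4 := fun r => prime_dvd_cyclotomic (q := p) (n := d) (by omega) hd (r := r)
  generalize ((cyclotomic d ℤ).eval (p : ℤ)).natAbs = F at h2 h3 h4
  have h5 : F ∣ p ^ d - 1 := (Dvd.intro_left _ rfl).trans h3
  have h6 : F ∣ d * (d + 1) ^ 2 * (2 * d + 1) := by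
    rw [Nat.dvd_iff_prime_pow_dvd_dvd]
    intro r k hr hk
    rcases k with _ | e
    · simp
    rcases h4 r hr ((dvd_pow_self r (Nat.succ_ne_zero e)).trans hk) with ⟨a, b, c, hc⟩ | ⟨a, b⟩
    · obtain ⟨h7, h8⟩ := h r hr a b
      have h9 := h8 e (hk.trans h5)
      have h10 := hr.two_le
      have h11 : c = 1 ∨ c = 2 := by
        rcases c with _ | _ | _ | c
        · omega
        · simp
        · simp
        · exfalso; nlinarith [Nat.sub_add_cancel (by omega : 1 ≤ r)]
      rcases h11 with rfl | rfl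
      · obtain rfl : r = d + 1 := by omega
        have h12 : e + 1 ≤ 2 := by
          by_contra! h12
          have := Nat.pow_le_pow_right (by omega : 0 < d + 1) (by omega : 2 ≤ e)
          nlinarith
        exact (((pow_dvd_pow _ h12).mul_left _).mul_right _)
      · obtain rfl : r = 2 * d + 1 := by omega
        obtain rfl : e = 0 := by
          by_contra! h12
          have := Nat.pow_le_pow_right (by omega : 0 < 2 * d + 1) (by omega : 1 ≤ e)
          rw [pow_one] at this
          omega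
        rw [zero_add, pow_one]
        exact Dvd.intro_left _ rfl
    · obtain rfl : e = 0 := by
        by_contra! h12
        exact b ((pow_dvd_pow _ (by omega)).trans hk)
      rw [zero_add, pow_one]
      exact (a.mul_right _).mul_right _
  have h7 := Nat.le_of_dvd (by positivity) h6
  have hn19 : d < 19 := by
    by_contra h8
    have := quartic_le_ten_pow (n := d) (by omega)
    have := Nat.pow_le_pow_left (by omega : 10 ≤ p - 1) d.totient
    omega
  have hq : p < 63 := by
    by_contra h8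
    have := latin_check_a d hn19 hd
    have := Nat.pow_le_pow_left (by omega : 62 ≤ p - 1) d.totient
    omega
  refine (latin_check_b d hn19 hd p hq hp).resolve_left (not_le.2 (h2.trans_le ?_))
  refine Nat.le_of_dvd (Nat.gcd_pos_of_pos_left _ (by positivity)) (Nat.dvd_gcd h6 ?_)
  exact Nat.dvd_div_of_mul_dvd h3

end Cfsg.Pass3
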